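import Cfsg.Agent.LinAlg.Witt.Bases
import Cfsg.Agent.LinAlg.Witt.Mat
import Cfsg.Agent.LinAlg.Witt.Std
import Cfsg.Agent.Classical.SympFormStd
import Cfsg.Agent.Classical.Symp.Form

/-!
Involutions of symplectic groups in characteristic two: the quadratic invariant and normal families.
-/

set_option autoImplicit false

namespace CfsgLib.Classical.SympCharTwo

open Matrix CfsgLib.Classical.Symp

variable {F : Type*} [Field F] [Finite F] [CharP F 2]

theorem exists_sqrt (t : F) : ∃ s : F, s ^ 2 = t := by
  obtain ⟨s, hs⟩ := Finite.injective_iff_surjective.1 (frobenius_inj F 2) t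
  exact ⟨s, by rw [← hs, frobenius_def]⟩

/-- A non-alternating nondegenerate symmetric form has an orthonormal family spanning the space. -/
theorem exists_orthonormal_family {V : Type*} [AddCommGroup V] [Module F V] [FiniteDimensional F V]
    (b : LinearMap.BilinForm F V) (hs : ∀ x y, b x y = b y x) : ∀ (r : ℕ) (W : Submodule F V),
    Module.finrank F W = r → (∀ x ∈ W, (∀ y ∈ W, b x y = 0) → x = 0) → (r ≠ 0 → ∃ x ∈ W, b x x ≠ 0) →
    ∃ v : Fin r → V, (∀ i, v i ∈ W) ∧ ∀ i j, b (v i) (v j) = if i = j then 1 else 0 := by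
  intro r
  induction r with
  | zero => intro W _ _ _; exact ⟨Fin.elim0, fun i => i.elim0, fun i => i.elim0⟩
  | succ r ih =>
    intro W hW hnd hdiag
    have main : ∀ x ∈ W, b x x = 1 → (r ≠ 0 → ∃ y ∈ W ⊓ LinearMap.ker (b x), b y y ≠ 0) →
        ∃ v : Fin (r + 1) → V, (∀ i, v i ∈ W) ∧ ∀ i j, b (v i) (v j) = if i = j then 1 else 0 := by
      intro x hx hxx hd
      set W' := W ⊓ LinearMap.ker (b x) with hW'
      have hxne : ¬ x ∈ W' := fun h => by
        have : b x x = 0 := h.2
        rw [hxx] at this; exact one_ne_zero this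
      have hsup : W' ⊔ Submodule.span F {x} = W := by
        refine le_antisymm (sup_le inf_le_left ((Submodule.span_singleton_le_iff_mem _ _).2 hx)) fun w hw => ?_
        rw [← sub_add_cancel w (b x w • x)]
        refine Submodule.add_mem_sup ⟨Submodule.sub_mem _ hw (Submodule.smul_mem _ _ hx), ?_⟩
          (Submodule.smul_mem _ _ (Submodule.mem_span_singleton_self x))
        show b x (w - b x w • x) = 0
        rw [map_sub, map_smul, hxx, smul_eq_mul, mul_one, sub_self]
      have hx0 : x ≠ 0 := fun h => hxne (h ▸ Submodule.zero_mem _)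
      have hrk : Module.finrank F W' = r := by
        have hdisj : W' ⊓ Submodule.span F {x} = ⊥ := by
          rw [eq_bot_iff]
          rintro w ⟨hw, hw'⟩
          obtain ⟨c, rfl⟩ := Submodule.mem_span_singleton.1 hw'
          rw [Submodule.mem_bot]
          by_contra hc
          exact hxne ((Submodule.smul_mem_iff W' (fun h => hc (by rw [h, zero_smul]))).1 hw)
        have h := Submodule.finrank_sup_add_finrank_inf_eq W' (Submodule.span F {x})
        rw [hsup, hdisj, finrank_bot, finrank_span_singleton hx0, hW] at h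
        omega
      obtain ⟨v, hv, hvb⟩ := ih W' hrk (fun y hy hy0 => hnd y hy.1 fun w hw => by
        obtain ⟨w', hw', z, hz, rfl⟩ := Submodule.mem_sup.1 (hsup.symm ▸ hw : w ∈ W' ⊔ Submodule.span F {x})
        obtain ⟨c, rfl⟩ := Submodule.mem_span_singleton.1 hz
        rw [map_add, map_smul, hy0 w' hw', hs y x, show b x y = 0 from hy.2, smul_zero, add_zero]) hd
      refine ⟨Fin.cons x v, fun i => Fin.cases hx (fun j => (hv j).1) i, fun i j => ?_⟩
      refine Fin.cases ?_ (fun i' => ?_) i <;> refine Fin.cases ?_ (fun j' => ?_) j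
      · simpa using hxx
      · simpa [eq_comm (a := (0 : Fin (r + 1)))] using (hv j').2
      · simp only [Fin.cons_succ, Fin.cons_zero, hs (v i') x, Fin.succ_ne_zero, if_false]
        exact (hv i').2
      · simp [hvb i' j']
    obtain ⟨x₀, hx₀, hx₀'⟩ := hdiag (Nat.succ_ne_zero r)
    obtain ⟨s, hs2⟩ := exists_sqrt (b x₀ x₀)⁻¹
    obtain ⟨x, hx, hxx⟩ : ∃ x ∈ W, b x x = 1 := ⟨s • x₀, W.smul_mem _ hx₀, by
      simp only [map_smul, LinearMap.smul_apply, smul_eq_mul]
      rw [← mul_assoc, ← sq, hs2, inv_mul_cancel₀ hx₀']⟩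
    by_cases hd : r ≠ 0 → ∃ y ∈ W ⊓ LinearMap.ker (b x), b y y ≠ 0
    · exact main x hx hxx hd
    · push Not at hd
      obtain ⟨hr0, halt⟩ := hd
      obtain ⟨e, he, hene⟩ : ∃ e ∈ W ⊓ LinearMap.ker (b x), e ≠ 0 := by
        by_contra hcon
        push Not at hcon
        have h1 : W ≤ Submodule.span F {x} := fun w hw => by
          have h2 := hcon (w - b x w • x) ⟨Submodule.sub_mem _ hw (Submodule.smul_mem _ _ hx), by
            show b x (w - b x w • x) = 0
            rw [map_sub, map_smul, hxx, smul_eq_mul, mul_one, sub_self]⟩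
          exact Submodule.mem_span_singleton.2 ⟨_, (sub_eq_zero.1 h2).symm⟩
        have h3 := (Submodule.finrank_mono h1).trans (finrank_span_le_card _)
        rw [hW] at h3
        simp at h3
        exact hr0 h3
      obtain ⟨f, hf, hef⟩ : ∃ f ∈ W ⊓ LinearMap.ker (b x), b e f = 1 := by
        obtain ⟨w, hw, hew⟩ : ∃ w ∈ W, b e w ≠ 0 := by
          by_contra hcon
          push Not at hcon
          exact hene (hnd e he.1 hcon)
        have hexz : b e x = 0 := by rw [hs]; exact he.2
        refine ⟨(b e w)⁻¹ • (w - b x w • x), Submodule.smul_mem _ _ ⟨Submodule.sub_mem _ hw (Submodule.smul_mem _ _ hx), ?_⟩, ?_⟩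
        · show b x (w - b x w • x) = 0
          rw [map_sub, map_smul, hxx, smul_eq_mul, mul_one, sub_self]
        · rw [map_smul, map_sub, map_smul, hexz, smul_zero, sub_zero, smul_eq_mul, inv_mul_cancel₀ hew]
      have hxe : b x e = 0 := he.2
      have hxf : b x f = 0 := hf.2
      refine main (x + e) (W.add_mem hx he.1) ?_ fun _ => ⟨x + f, ⟨W.add_mem hx hf.1, ?_⟩, ?_⟩
      · simp [hxx, hxe, hs e x, halt e he]
      · show b (x + e) (x + f) = 0
        simp [hxx, hxf, hef, hs e x, hxe, CharTwo.add_self_eq_zero]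
      · simp [hxx, hxf, hs f x, halt f hf]

variable {m : ℕ}

local notation "B" => Cfsg.sympForm m F
local notation "Sp" => Matrix.symplecticGroup (Fin m) F
local notation "V" => Fin m ⊕ Fin m → F

/-- The displacement `v ↦ a v + v`. -/
def disp (a : Sp) : V →ₗ[F] V := ((a : Matrix (Fin m ⊕ Fin m) (Fin m ⊕ Fin m) F) - 1).mulVecLin

theorem disp_apply (a : Sp) (v : V) :
    disp a v = (a : Matrix (Fin m ⊕ Fin m) (Fin m ⊕ Fin m) F) *ᵥ v + v := by
  show ((a : Matrix (Fin m ⊕ Fin m) (Fin m ⊕ Fin m) F) - 1) *ᵥ v = _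
  rw [sub_mulVec, one_mulVec]
  funext i
  exact CharTwo.sub_eq_add _ _

theorem form_comm (u v : V) : B u v = B v u := by rw [form_swap, CharTwo.neg_eq]

variable {a : Matrix.symplecticGroup (Fin m) F} (ha : a * a = 1)

include ha in
theorem disp_adjoint (u v : V) : B (disp a u) v = B u (disp a v) := by
  have h := form_mulVec a u ((a : Matrix (Fin m ⊕ Fin m) (Fin m ⊕ Fin m) F) *ᵥ v)
  rw [← mul_mulVec, ha, Submonoid.coe_one, one_mulVec] at h
  rw [disp_apply, disp_apply, form_add_left, form_add_right, h]

include ha in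
theorem disp_disp (v : V) : disp a (disp a v) = 0 := by
  rw [disp_apply, disp_apply, mulVec_add, ← mul_mulVec, ha, Submonoid.coe_one, one_mulVec,
    add_comm v ((a : Matrix (Fin m ⊕ Fin m) (Fin m ⊕ Fin m) F) *ᵥ v)]
  funext i
  exact CharTwo.add_self_eq_zero _

theorem form_mulVec_eq_disp (v : V) :
    B v ((a : Matrix (Fin m ⊕ Fin m) (Fin m ⊕ Fin m) F) *ᵥ v) = B v (disp a v) := by
  rw [disp_apply, form_add_right, form_self, add_zero]

include ha in
/-- The invariant `v ↦ f(v, a v)` is additive. -/
theorem quad_add (u v : V) : B (u + v) (disp a (u + v)) = B u (disp a u) + B v (disp a v) := by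
  rw [map_add, form_add_left, form_add_right, form_add_right,
    show B v (disp a u) = B u (disp a v) by rw [form_comm, disp_adjoint ha]]
  rw [add_add_add_comm, ← add_assoc, add_assoc (B u (disp a u)) (B u (disp a v)), CharTwo.add_self_eq_zero,
    add_zero]

/-- The invariant as an additive map. -/
def quadHom : V →+ F :=
  AddMonoidHom.mk' (fun v => B v (disp a v)) (quad_add ha)

include ha in
theorem card_invariant_set [Fintype F] :
    ((∀ v : V, B v ((a : Matrix (Fin m ⊕ Fin m) (Fin m ⊕ Fin m) F) *ᵥ v) = 0) ∧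
      Nat.card {v : V // B v ((a : Matrix (Fin m ⊕ Fin m) (Fin m ⊕ Fin m) F) *ᵥ v) = 0} = Fintype.card F ^ (2 * m)) ∨
    (¬ (∀ v : V, B v ((a : Matrix (Fin m ⊕ Fin m) (Fin m ⊕ Fin m) F) *ᵥ v) = 0) ∧
      Nat.card {v : V // B v ((a : Matrix (Fin m ⊕ Fin m) (Fin m ⊕ Fin m) F) *ᵥ v) = 0} * Fintype.card F = Fintype.card F ^ (2 * m)) := by
  classical
  have hV : Nat.card V = Fintype.card F ^ (2 * m) := by
    rw [Nat.card_eq_fintype_card]; simp [two_mul]
  simp only [form_mulVec_eq_disp]
  by_cases h : ∀ v : V, B v (disp a v) = 0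
  · exact Or.inl ⟨h, by rw [Nat.card_congr (Equiv.subtypeUnivEquiv h), hV]⟩
  · refine Or.inr ⟨h, ?_⟩
    push Not at h
    obtain ⟨v, hv⟩ := h
    have hsurj : Function.Surjective (quadHom ha) := by
      intro t
      obtain ⟨s, hs⟩ := exists_sqrt (t / B v (disp a v))
      refine ⟨s • v, ?_⟩
      show B (s • v) (disp a (s • v)) = t
      rw [map_smul, form_smul_left, form_smul_right, ← mul_assoc, ← sq, hs, div_mul_cancel₀ _ hv]
    have h2 := (quadHom ha).ker.card_mul_index
    rw [AddSubgroup.index_ker, AddMonoidHom.range_eq_top.2 hsurj, AddSubgroup.card_top, hV,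
      Nat.card_eq_fintype_card (α := F)] at h2
    exact h2

/-- A family normal for `a`: isotropic, with pairing `f(v_i, a v_j)` given by the permutation `π`, with
displacements spanning the commutator space. -/
structure NormalFamily (a : Sp) {κ : Type*} [DecidableEq κ] (π : Equiv.Perm κ) (v : κ → V) : Prop where
  form : ∀ i j, B (v i) (v j) = 0
  pair : ∀ i j, B (v i) (disp a (v j)) = if j = π i then 1 else 0
  span : LinearMap.range (disp a) ≤ Submodule.span F (Set.range fun i => disp a (v i))

include ha in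
theorem NormalFamily.li {κ : Type*} [Fintype κ] [DecidableEq κ] {π : Equiv.Perm κ} {v : κ → V}
    (h : NormalFamily a π v) : LinearIndependent F (Sum.elim v (fun i => disp a (v i))) := by
  rw [Fintype.linearIndependent_iff]
  intro g hg
  simp only [Fintype.sum_sum_type, Sum.elim_inl, Sum.elim_inr] at hg
  have h1 := congrArg (disp a) hg
  simp only [map_add, map_sum, map_smul, disp_disp ha, smul_zero, Finset.sum_const_zero, add_zero, map_zero] at h1
  have key : ∀ c : κ → F, ∑ i, c i • disp a (v i) = 0 → ∀ i, c i = 0 := by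
    intro c hc i
    have h2 := congrArg (fun z => B (v (π.symm i)) z) hc
    simp only [form_sum_right, form_smul_right, h.pair, Equiv.apply_symm_apply, mul_ite, mul_one, mul_zero,
      Finset.sum_ite_eq', Finset.mem_univ, if_true, form_zero_right] at h2
    exact h2
  have hl : ∀ i, g (Sum.inl i) = 0 := key _ h1
  simp only [hl, zero_smul, Finset.sum_const_zero, zero_add] at hg
  rintro (i | i)
  · exact hl i
  · exact key _ hg i

include ha in
theorem NormalFamily.disp_eq {κ : Type*} [Fintype κ] [DecidableEq κ] {π : Equiv.Perm κ} {v : κ → V}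
    (h : NormalFamily a π v) (x : V) :
    disp a x = ∑ k, B (disp a (v (π.symm k))) x • disp a (v k) := by
  obtain ⟨c, hc⟩ := (Submodule.mem_span_range_iff_exists_fun F).1 (h.span (LinearMap.mem_range_self _ x))
  conv_lhs => rw [← hc]
  refine Finset.sum_congr rfl fun k _ => ?_
  congr 1
  rw [disp_adjoint ha, ← hc, form_sum_right]
  simp [form_smul_right, h.pair]

/-- Involutions with normal families of the same shape are conjugate. -/
theorem isConj_of_normalFamily {a b : Sp} (ha : a * a = 1) (hb : b * b = 1) {κ : Type*} [Fintype κ]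
    [DecidableEq κ] {π : Equiv.Perm κ} {v v' : κ → V} (hv : NormalFamily a π v)
    (hv' : NormalFamily b π v') : IsConj a b := by
  obtain ⟨g, hg, hgv⟩ := CfsgLib.LinAlg.Witt.exists_symplectic_family (CfsgLib.SympFormStd.isSymplecticForm m F)
    (hv.li ha) (hv'.li hb) (by
      rintro (i | i) (j | j)
      · simp [hv.form, hv'.form]
      · simp [hv.pair, hv'.pair]
      · simp [disp_adjoint ha, disp_adjoint hb, hv.pair, hv'.pair]
      · simp [disp_adjoint ha, disp_adjoint hb, disp_disp ha, disp_disp hb, form_zero_right])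
  obtain ⟨h, hh⟩ := CfsgLib.LinAlg.Witt.exists_symplecticGroup_of_preserves hg
  have hdisp : ∀ x, disp b ((h : Matrix (Fin m ⊕ Fin m) (Fin m ⊕ Fin m) F) *ᵥ x) = (h : Matrix (Fin m ⊕ Fin m) (Fin m ⊕ Fin m) F) *ᵥ disp a x := by
    intro x
    rw [hv'.disp_eq hb, hv.disp_eq ha x, mulVec_sum]
    refine Finset.sum_congr rfl fun k _ => ?_
    have e1 : ∀ k, disp b (v' k) = (h : Matrix (Fin m ⊕ Fin m) (Fin m ⊕ Fin m) F) *ᵥ disp a (v k) := fun k => by
      rw [hh]; exact (hgv (Sum.inr k)).symm
    rw [mulVec_smul, e1, e1, form_mulVec]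
  refine isConj_iff.2 ⟨h, symp_ext fun x => ?_⟩
  have hx := hdisp (((h⁻¹ : Sp) : Matrix (Fin m ⊕ Fin m) (Fin m ⊕ Fin m) F) *ᵥ x)
  rw [mulVec_inv_cancel, disp_apply, disp_apply, mulVec_add, mulVec_inv_cancel] at hx
  rw [mul_mulVec, mul_mulVec]
  exact (add_right_cancel hx).symm

include ha in
/-- Existence of normal families. -/
theorem exists_normalFamily :
    ((∀ v : V, B v ((a : Matrix (Fin m ⊕ Fin m) (Fin m ⊕ Fin m) F) *ᵥ v) = 0) ∧ ∃ k : ℕ, Module.finrank F (LinearMap.range (disp a)) = 2 * k ∧
      ∃ v : Fin k ⊕ Fin k → V, NormalFamily a (Equiv.sumComm _ _) v) ∨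
    (¬ (∀ v : V, B v ((a : Matrix (Fin m ⊕ Fin m) (Fin m ⊕ Fin m) F) *ᵥ v) = 0) ∧
      ∃ v : Fin (Module.finrank F (LinearMap.range (disp a))) → V, NormalFamily a (Equiv.refl _) v) := by
  classical
  obtain ⟨D, hD⟩ := Submodule.exists_isCompl (LinearMap.ker (disp a))
  have hDrk : Module.finrank F D = Module.finrank F (LinearMap.range (disp a)) := by
    have h := LinearMap.finrank_range_add_finrank_ker (disp a)
    have h2 := Submodule.finrank_add_eq_of_isCompl hD
    omega
  let β : LinearMap.BilinForm F V := LinearMap.mk₂ F (fun u w => B u (disp a w))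
    (fun u u' w => form_add_left u u' _) (fun c u w => form_smul_left c u _)
    (fun u w w' => by rw [map_add, form_add_right]) (fun c u w => by rw [map_smul, form_smul_right]; rfl)
  have hsymm : ∀ u w, β u w = β w u := fun u w => by
    show B u (disp a w) = B w (disp a u)
    rw [form_comm w, disp_adjoint ha]
  have hdec : ∀ x : V, ∃ d ∈ D, disp a x = disp a d := fun x => by
    obtain ⟨z, hz, d, hd, rfl⟩ := Submodule.mem_sup.1 (hD.sup_eq_top.symm ▸ Submodule.mem_top : x ∈ LinearMap.ker (disp a) ⊔ D)
    exact ⟨d, hd, by rw [map_add, LinearMap.mem_ker.1 hz, zero_add]⟩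
  have hnd : ∀ x ∈ D, (∀ y ∈ D, β x y = 0) → x = 0 := by
    intro x hx hx0
    have : disp a x = 0 := eq_zero_of_form_eq_zero fun w => by
      obtain ⟨d, hd, he⟩ := hdec w
      rw [disp_adjoint ha, he]
      exact hx0 d hd
    exact (Submodule.disjoint_def.1 hD.disjoint) x (LinearMap.mem_ker.2 this) hx
  have mk : ∀ {κ : Type} [Fintype κ] [DecidableEq κ] (π : Equiv.Perm κ) (v : κ → V),
      (∀ i, v i ∈ D) → Fintype.card κ = Module.finrank F D →
      (∀ i j, B (v i) (disp a (v j)) = if j = π i then 1 else 0) → (∀ i, π (π i) = i) →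
      ∃ v, NormalFamily a π v := by
    intro κ _ _ π v hvD hcard hp hπ
    let e := Fintype.equivFin κ
    let c : κ → κ → F := fun i k => if e i < e (π k) then B (v i) (v (π k)) else 0
    let v' : κ → V := fun i => v i + ∑ k, c i k • disp a (v k)
    have hdv : ∀ i, disp a (v' i) = disp a (v i) := fun i => by
      simp [v', map_sum, disp_disp ha]
    have hπ' : ∀ i k, (k = π i) = (π k = i) := fun i k => propext
      ⟨fun h => by rw [h, hπ], fun h => by rw [← h, hπ]⟩
    refine ⟨v', fun i j => ?_, fun i j => ?_, ?_⟩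
    · have e1 : ∀ i j, B (v i) (∑ k, c j k • disp a (v k)) = c j (π i) := fun i j => by
        simp [form_sum_right, form_smul_right, hp]
      simp only [v', form_add_left, form_add_right]
      rw [e1, form_comm (∑ k, c i k • disp a (v k)) (v j), e1]
      rw [show B (∑ k, c i k • disp a (v k)) (∑ k, c j k • disp a (v k)) = 0 by
        rw [form_sum_right]
        refine Finset.sum_eq_zero fun k _ => ?_
        rw [form_smul_right, form_comm, form_sum_right, Finset.sum_eq_zero, mul_zero]
        intro l _
        rw [form_smul_right, disp_adjoint ha, disp_disp ha, form_zero_right, mul_zero]]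
      simp only [c, hπ, add_zero]
      rcases lt_trichotomy (e i) (e j) with h | h | h
      · rw [if_pos h, if_neg (not_lt.2 h.le), add_zero, CharTwo.add_self_eq_zero]
      · obtain rfl := e.injective h
        simp [form_self]
      · rw [if_neg (not_lt.2 h.le), if_pos h, add_zero, form_comm (v j), CharTwo.add_self_eq_zero]
    · rw [hdv]
      simp only [v', form_add_left]
      rw [show B (∑ k, c i k • disp a (v k)) (disp a (v j)) = 0 by
        rw [form_comm, form_sum_right]
        exact Finset.sum_eq_zero fun k _ => by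
          rw [form_smul_right, disp_adjoint ha, disp_disp ha, form_zero_right, mul_zero], add_zero, hp]
    · simp only [hdv]
      have hli : LinearIndependent F v := by
        rw [Fintype.linearIndependent_iff]
        intro g hg i
        have h2 := congrArg (fun z => B z (disp a (v (π i)))) hg
        simp only [form_comm _ (disp a (v (π i))), form_sum_right, form_smul_right, form_zero_right] at h2
        rw [← h2, Finset.sum_eq_single i]
        · rw [form_comm, hp, if_pos rfl, mul_one]
        · intro k _ hk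
          rw [form_comm, hp, if_neg (fun h => hk (π.injective h.symm)), mul_zero]
        · exact fun h => absurd (Finset.mem_univ i) h
      have hspan : D ≤ Submodule.span F (Set.range v) := by
        rw [Submodule.eq_of_le_of_finrank_eq (Submodule.span_le.2 (Set.range_subset_iff.2 hvD))
          (by rw [finrank_span_eq_card hli, hcard])]
      rintro _ ⟨x, rfl⟩
      obtain ⟨d, hd, he⟩ := hdec x
      rw [he, show (fun i => disp a (v i)) = disp a ∘ v from rfl, Set.range_comp, ← Submodule.map_span]
      exact Submodule.mem_map_of_mem (hspan hd)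
  simp only [form_mulVec_eq_disp]
  by_cases halt : ∀ v : V, B v (disp a v) = 0
  · refine Or.inl ⟨halt, ?_⟩
    have hk : LinearMap.ker (β.domRestrict₁₂ D D) = ⊥ := by
      rw [LinearMap.ker_eq_bot']
      intro x hx
      exact Subtype.ext (hnd x x.2 fun y hy => LinearMap.congr_fun hx ⟨y, hy⟩)
    obtain ⟨k, bb, hrk, hef, hee, hff⟩ := CfsgLib.LinAlg.Witt.exists_symplectic_basis (β.domRestrict₁₂ D D)
      (fun x => halt x) hk
    refine ⟨k, hDrk ▸ hrk, mk (Equiv.sumComm _ _) (fun i => (bb i : V)) (fun i => (bb i).2) ?_ ?_ ?_⟩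
    · rw [hrk]; simp [two_mul]
    · rintro (i | i) (j | j)
      · exact (hee i j).trans (by simp)
      · exact (hef i j).trans (by simp [eq_comm])
      · show β (bb (Sum.inr i) : V) (bb (Sum.inl j) : V) = _
        rw [hsymm]
        exact (hef j i).trans (by simp)
      · exact (hff i j).trans (by simp)
    · rintro (i | i) <;> rfl
  · refine Or.inr ⟨halt, ?_⟩
    push Not at halt
    obtain ⟨x, hx⟩ := halt
    obtain ⟨v, hvD, hv⟩ := exists_orthonormal_family β hsymm _ D hDrk hnd (fun _ => by
      obtain ⟨d, hd, he⟩ := hdec x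
      refine ⟨d, hd, fun h => hx ?_⟩
      show B x (disp a x) = 0
      rw [he, ← disp_adjoint ha, he, disp_adjoint ha]
      exact h)
    exact mk (Equiv.refl _) v hvD (by simp [hDrk]) (fun i j => (hv i j).trans (by simp [eq_comm])) (fun i => rfl)

end CfsgLib.Classical.SympCharTwo
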